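import Groth.Agent.Lib.FBase7.Models
import Groth.Agent.Lib.AlgMisc.GeomRedAt
import Groth.Agent.Lib.RedSub.Basic
import Mathlib

/-!
# Geometrically reduced reduction after a finite purely inseparable extension
-/

set_option autoImplicit false
set_option linter.style.haveILetI false
set_option maxSynthPendingDepth 3
universe u

open CategoryTheory CategoryTheory.Limits AlgebraicGeometry TensorProduct
open Groth.Agent.Lib.AlgMisc.GeomRedAt

namespace GrothLib.GRModel5

/-- An affine open containing all maximal points, for finitely many components. -/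
theorem exists_affine_maximalPoints (X : Scheme.{u}) (hirr : (irreducibleComponents (X : Type u)).Finite) :
    ∃ U : X.Opens, IsAffineOpen U ∧ ∀ η : X, (∀ y : X, y ⤳ η → η ⤳ y) → η ∈ U := by
  classical
  have hW : ∀ Z : irreducibleComponents (X : Type u), ∃ V : X.Opens, IsAffineOpen V ∧
      (V : Set X) ⊆ (⋃ Z' ∈ irreducibleComponents (X : Type u) \ {Z.1}, Z')ᶜ ∧
      ∀ η : X, closure ({η} : Set X) = Z.1 → η ∈ V := by
    intro Z
    obtain ⟨η, hη⟩ := QuasiSober.sober Z.2.1 (isClosed_of_mem_irreducibleComponents _ Z.2)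
    have hopen : IsOpen (⋃ Z' ∈ irreducibleComponents (X : Type u) \ {Z.1}, Z')ᶜ :=
      ((hirr.diff).isClosed_biUnion fun Z' hZ' => isClosed_of_mem_irreducibleComponents _ hZ'.1).isOpen_compl
    have hmem : η ∈ (⋃ Z' ∈ irreducibleComponents (X : Type u) \ {Z.1}, Z')ᶜ := by
      simp only [Set.mem_compl_iff, Set.mem_iUnion, not_exists]
      rintro Z' ⟨hZ', hne⟩ hηZ'
      refine hne (Set.mem_singleton_iff.2 (Set.Subset.antisymm (Z.2.2 hZ'.1 ?_) ?_))
      · rw [← hη.def]
        exact closure_minimal (Set.singleton_subset_iff.2 hηZ') (isClosed_of_mem_irreducibleComponents _ hZ')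
      · rw [← hη.def]
        exact closure_minimal (Set.singleton_subset_iff.2 hηZ') (isClosed_of_mem_irreducibleComponents _ hZ')
    obtain ⟨_, ⟨V, hV, rfl⟩, hηV, hVs⟩ := X.isBasis_affineOpens.exists_subset_of_mem_open hmem hopen
    refine ⟨V, hV, hVs, fun η' hη' => ?_⟩
    rwa [IsGenericPoint.eq hη' hη]
  choose V hV hVs hVη using hW
  haveI : Finite (irreducibleComponents (X : Type u)) := hirr.to_subtype
  refine ⟨⨆ Z, V Z, IsAffineOpen.iSup_of_disjoint hV ?_, fun η hη => ?_⟩
  · intro Z Z' hne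
    rw [Function.onFun, ← TopologicalSpace.Opens.coe_disjoint, Set.disjoint_left]
    intro x hx hx'
    have h1 := hVs Z hx
    have h2 := hVs Z' hx'
    simp only [Set.mem_compl_iff, Set.mem_iUnion, not_exists] at h1 h2
    obtain ⟨C, hC, hxC⟩ : ∃ C ∈ irreducibleComponents (X : Type u), x ∈ C :=
      ⟨_, irreducibleComponent_mem_irreducibleComponents x, mem_irreducibleComponent⟩
    by_cases hCZ : C = Z.1
    · exact h2 C ⟨hC, fun h => hne (Subtype.ext (hCZ.symm.trans h))⟩ hxC
    · exact h1 C ⟨hC, hCZ⟩ hxC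
  · have hC : closure ({η} : Set X) ∈ irreducibleComponents (X : Type u) := by
      refine ⟨isIrreducible_singleton.closure, fun T hT hle => ?_⟩
      obtain ⟨t, ht⟩ := QuasiSober.sober hT.closure isClosed_closure
      have h1 : t ⤳ η := ht.specializes (subset_closure (hle (subset_closure rfl)))
      intro z hz
      exact specializes_iff_mem_closure.1 ((hη t h1).trans (ht.specializes (subset_closure hz)))
    exact TopologicalSpace.Opens.mem_iSup.2 ⟨⟨_, hC⟩, hVη ⟨_, hC⟩ η rfl⟩

variable (k : Type u) [Field k] (X : Scheme.{u}) [X.Over (Spec (CommRingCat.of k))]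

/-- The chart of a base change over an affine open. -/
theorem exists_chart (k' : Type u) [Field k'] [Algebra k k'] {U : X.Opens} (hU : IsAffineOpen U)
    [Algebra k Γ(X, U)] (halg : hU.fromSpec ≫ (X ↘ Spec (CommRingCat.of k)) =
      Spec.map (CommRingCat.ofHom (algebraMap k Γ(X, U)))) :
    ∃ M : Spec (CommRingCat.of (k' ⊗[k] Γ(X, U))) ⟶ Curv2.bc k X k',
      IsOpenImmersion M ∧ Set.range M = Curv2.bcFst k X k' ⁻¹' (U : Set X) ∧
      M ≫ Curv2.bcSnd k X k' = Spec.map (CommRingCat.ofHom (algebraMap k' (k' ⊗[k] Γ(X, U)))) := by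
  let a₁ : Spec (CommRingCat.of k') ⟶ Spec (CommRingCat.of k) :=
    Spec.map (CommRingCat.ofHom (algebraMap k k'))
  let a₂ : Spec Γ(X, U) ⟶ Spec (CommRingCat.of k) :=
    Spec.map (CommRingCat.ofHom (algebraMap k Γ(X, U)))
  let W : (Curv2.bc k X k').Opens := Curv2.bcFst k X k' ⁻¹ᵁ U
  have hUf : hU.isoSpec.hom ≫ a₂ = U.ι ≫ (X ↘ Spec (CommRingCat.of k)) := by
    rw [show a₂ = hU.fromSpec ≫ (X ↘ Spec (CommRingCat.of k)) from halg.symm, ← Category.assoc,
      hU.isoSpec_hom_fromSpec]
  have H1 : IsPullback (Curv2.bcFst k X k' ∣_ U) (W.ι ≫ Curv2.bcSnd k X k')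
      (U.ι ≫ (X ↘ Spec (CommRingCat.of k))) a₁ :=
    ((isPullback_morphismRestrict (Curv2.bcFst k X k') U).paste_vert
      (IsPullback.of_hasPullback (X ↘ Spec (CommRingCat.of k)) a₁))
  have H2 : IsPullback ((pullbackSpecIso k k' Γ(X, U)).inv ≫ pullback.snd a₁ a₂ ≫ hU.isoSpec.inv)
      ((pullbackSpecIso k k' Γ(X, U)).inv ≫ pullback.fst a₁ a₂)
      (U.ι ≫ (X ↘ Spec (CommRingCat.of k))) a₁ :=
    (IsPullback.of_hasPullback a₁ a₂).flip.of_iso (pullbackSpecIso k k' Γ(X, U)) hU.isoSpec.symm
      (Iso.refl _) (Iso.refl _)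
      (by simp [a₁, a₂]) (by simp [a₁, a₂]) (by simp [← hUf]) (by simp [a₁])
  let E : W.toScheme ≅ Spec (CommRingCat.of (k' ⊗[k] Γ(X, U))) := H1.isoIsPullback _ _ H2
  have hE : E.hom ≫ Spec.map (CommRingCat.ofHom (algebraMap k' (k' ⊗[k] Γ(X, U)))) =
      W.ι ≫ Curv2.bcSnd k X k' := by
    have := H1.isoIsPullback_hom_snd _ _ H2
    exact (congrArg (E.hom ≫ ·) (pullbackSpecIso_inv_fst k k' Γ(X, U))).symm.trans this
  refine ⟨E.inv ≫ W.ι, inferInstance, ?_, ?_⟩
  · rw [Scheme.Hom.comp_base, TopCat.coe_comp, Set.range_comp,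
      Set.range_eq_univ.2 E.inv.surjective, Set.image_univ, Scheme.Opens.range_ι]
    rfl
  · rw [Category.assoc, ← hE, E.inv_hom_id_assoc]

/-- The reduction is geometrically reduced after a finite purely inseparable extension. -/
theorem exists_model [LocallyOfFiniteType (X ↘ Spec (CommRingCat.of k))]
    (hirr : (irreducibleComponents (X : Type u)).Finite) :
    ∃ (k' : Type u) (_ : Field k') (_ : Algebra k k'), FiniteDimensional k k' ∧ IsPurelyInseparable k k' ∧
      GeometricallyReduced ((Curv2.bc k X k').nilradical.subschemeι ≫ Curv2.bcSnd k X k') := by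
  obtain ⟨U, hU, hUmax⟩ := exists_affine_maximalPoints X hirr
  let φ := Spec.preimage (hU.fromSpec ≫ (X ↘ Spec (CommRingCat.of k)))
  letI : Algebra k Γ(X, U) := φ.hom.toAlgebra
  have halg : hU.fromSpec ≫ (X ↘ Spec (CommRingCat.of k)) =
      Spec.map (CommRingCat.ofHom (algebraMap k Γ(X, U))) := (Spec.map_preimage _).symm
  haveI : Algebra.FiniteType k Γ(X, U) := by
    have h : LocallyOfFiniteType (Spec.map φ) := by rw [Spec.map_preimage]; infer_instance
    exact (HasRingHomProperty.Spec_iff (P := @LocallyOfFiniteType)).1 h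
  obtain ⟨q, hq⟩ := ExpChar.exists k
  let K := perfectClosure k (AlgebraicClosure k)
  haveI : PerfectField K := inferInstance
  haveI : IsNoetherianRing (K ⊗[k] Γ(X, U)) := Algebra.FiniteType.isNoetherianRing K _
  obtain ⟨k', hk', hk'a, hfin, hpi, hB⟩ := GrothLib.FBase7.exists_geometricallyReduced_model (k := k) K Γ(X, U)
  letI := hk'
  letI := hk'a
  refine ⟨k', hk', hk'a, hfin, hpi, ?_⟩
  obtain ⟨M, hM, hMr, hMs⟩ := exists_chart k X k' hU halg
  let R := k' ⊗[k] Γ(X, U)
  let ι := (Curv2.bc k X k').nilradical.subschemeι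
  letI : ((Curv2.bc k X k').nilradical.subscheme).Over (Spec (CommRingCat.of k')) :=
    ⟨ι ≫ Curv2.bcSnd k X k'⟩
  haveI : IsReduced ((Curv2.bc k X k').nilradical.subscheme) := by
    rw [← Scheme.IdealSheafData.vanishingIdeal_top]
    exact GrothLib.RedSub.isReduced_subscheme_vanishingIdeal _
  have hιs : Function.Surjective ι := by
    rw [← Set.range_eq_univ, Scheme.IdealSheafData.range_subschemeι, Scheme.support_nilradical]
    rfl
  let g : pullback M ι ⟶ Spec (CommRingCat.of R) := pullback.fst M ι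
  haveI : IsClosedImmersion g := MorphismProperty.pullback_fst M ι inferInstance
  haveI : IsOpenImmersion (pullback.snd M ι) := MorphismProperty.pullback_snd M ι hM
  haveI : IsReduced (pullback M ι) := isReduced_of_isOpenImmersion (pullback.snd M ι)
  obtain ⟨I, e, he⟩ := IsClosedImmersion.Spec_iff.1 ‹IsClosedImmersion g›
  haveI : _root_.IsReduced (R ⧸ I) := by
    haveI : IsReduced (Spec (CommRingCat.of (R ⧸ I))) := isReduced_of_isOpenImmersion e.inv
    exact (affine_isReduced_iff _).1 ‹_›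
  have hsurj : Function.Surjective g := by
    intro z
    obtain ⟨w, hw⟩ := hιs (M z)
    obtain ⟨t, ht, -⟩ := Scheme.Pullback.exists_preimage_pullback z w hw.symm
    exact ⟨t, ht⟩
  have hI : I = nilradical R := by
    refine le_antisymm ?_ ?_
    · rw [nilradical, Ideal.radical_eq_sInf]
      refine le_sInf ?_
      rintro P ⟨-, hP⟩
      obtain ⟨t, ht⟩ := hsurj ⟨P, hP⟩
      rw [he, Scheme.Hom.comp_apply] at ht
      intro a ha
      rw [← show ((Spec.map (CommRingCat.ofHom (Ideal.Quotient.mk I))) (e.hom t)).asIdeal = P from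
        congrArg PrimeSpectrum.asIdeal ht]
      show Ideal.Quotient.mk I a ∈ (e.hom t).asIdeal
      rw [Ideal.Quotient.eq_zero_iff_mem.2 ha]
      exact Ideal.zero_mem _
    · intro a ha
      rw [← Ideal.Quotient.eq_zero_iff_mem]
      exact ((mem_nilradical.1 ha).map (Ideal.Quotient.mk I)).eq_zero
  subst hI
  refine geometricallyReduced_of_maximalPoints (k := k') fun η hη => ?_
  -- maximal points lie in the chart
  have hx : Curv2.bcFst k X k' (ι η) ∈ U := hUmax _ fun y hy => by
    haveI : Flat (Spec.map (CommRingCat.ofHom (algebraMap k k'))) := by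
      rw [HasRingHomProperty.Spec_iff (P := @Flat)]
      exact RingHom.flat_algebraMap_iff.2 inferInstance
    haveI : Flat (Curv2.bcFst k X k') := MorphismProperty.pullback_fst _ _ inferInstance
    obtain ⟨w, hw, rfl⟩ := Flat.generalizingMap (Curv2.bcFst k X k') hy
    obtain ⟨v, rfl⟩ := hιs w
    exact ((hη v (ι.isEmbedding.isInducing.specializes_iff.1 hw)).map ι.continuous).map
      (Curv2.bcFst k X k').continuous
  obtain ⟨z, hz⟩ : ι η ∈ Set.range M := hMr ▸ hx
  obtain ⟨t, -, ht⟩ := Scheme.Pullback.exists_preimage_pullback z η hz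
  subst ht
  let S := Spec (CommRingCat.of (R ⧸ nilradical R))
  let j : S ⟶ (Curv2.bc k X k').nilradical.subscheme := e.inv ≫ pullback.snd M ι
  have hj : j ≫ ι ≫ Curv2.bcSnd k X k' =
      Spec.map (CommRingCat.ofHom (algebraMap k' (R ⧸ nilradical R))) := by
    have h1 : e.inv ≫ g = Spec.map (CommRingCat.ofHom (Ideal.Quotient.mk (nilradical R))) := by
      rw [he, e.inv_hom_id_assoc]
    simp only [j, Category.assoc, ← pullback.condition_assoc]
    rw [← Category.assoc, show e.inv ≫ pullback.fst M ι = _ from h1, hMs, ← Spec.map_comp]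
    rfl
  intro L _ _ y hy
  let Y := Curv2.bc k' ((Curv2.bc k X k').nilradical.subscheme) L
  let p : Y ⟶ (Curv2.bc k X k').nilradical.subscheme := Curv2.bcFst k' _ L
  let b := Spec.map (CommRingCat.ofHom (algebraMap k' L))
  haveI : IsOpenImmersion j := inferInstance
  let m : pullback (j ≫ ι ≫ Curv2.bcSnd k X k') b ⟶ Y :=
    pullback.map _ _ _ _ j (𝟙 _) (𝟙 _)
      (by show (j ≫ ι ≫ Curv2.bcSnd k X k') ≫ 𝟙 _ = j ≫ (ι ≫ Curv2.bcSnd k X k'); simp)
      (by simp [b])
  haveI : IsOpenImmersion m := by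
    dsimp only [m]
    infer_instance
  have hred : IsReduced (pullback (j ≫ ι ≫ Curv2.bcSnd k X k') b) := by
    haveI : _root_.IsReduced (L ⊗[k'] (R ⧸ nilradical R)) := GrothLib.GrpSchField.isReduced_tensorProduct
    haveI : _root_.IsReduced ((R ⧸ nilradical R) ⊗[k'] L) :=
      isReduced_of_injective (Algebra.TensorProduct.comm k' (R ⧸ nilradical R) L)
        (Algebra.TensorProduct.comm k' (R ⧸ nilradical R) L).injective
    haveI : IsReduced (Spec (CommRingCat.of ((R ⧸ nilradical R) ⊗[k'] L))) := inferInstance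
    exact isReduced_of_isOpenImmersion
      (pullback.congrHom hj (rfl : b = _) ≪≫ pullbackSpecIso k' (R ⧸ nilradical R) L).hom
  obtain ⟨w, hw⟩ : y ∈ Set.range m := by
    rw [show Set.range m = _ from Scheme.Pullback.range_map ..]
    refine ⟨⟨e.hom t, ?_⟩, ⟨_, rfl⟩⟩
    refine Eq.trans ?_ hy.symm
    show (e.hom ≫ e.inv ≫ pullback.snd M ι) t = _
    rw [e.hom_inv_id_assoc]
  rw [← hw]
  haveI := hred
  exact isReduced_of_injective (asIso (m.stalkMap w)).commRingCatIsoToRingEquiv
    (asIso (m.stalkMap w)).commRingCatIsoToRingEquiv.injective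

end GrothLib.GRModel5
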